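import Cfsg.Agent.Lib.DGroup.Main
import Cfsg.Agent.Lib.FgsC.Hamiltonian

/-!
# Groups in which the subgroups of a cyclic group of even order have the same normalizer
-/

set_option autoImplicit false
set_option linter.unusedSectionVars false
set_option linter.style.haveILetI false

namespace CfsgLib.DGroup.II

open Subgroup CfsgLib.Involutions

universe u

variable {G : Type u} [Group G]

/-- All nontrivial subgroups of a cyclic group of even order have the same normalizer. -/
def NEq (G : Type u) [Group G] : Prop :=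
  ∀ X : Subgroup G, IsCyclic X → Even (Nat.card X) → ∀ Y : Subgroup G, Y ≤ X → Y ≠ ⊥ →
    normalizer (X : Set G) = normalizer (Y : Set G)

theorem conj_mem {x y : G} (hx : x ∈ normalizer ((zpowers y : Subgroup G) : Set G)) :
    x * y * x⁻¹ ∈ zpowers y :=
  (mem_normalizer_iff.1 hx y).1 (mem_zpowers y)

theorem mem_two {v y : G} (hv : v * v = 1) (hy : y ∈ zpowers v) : y = 1 ∨ y = v := by
  obtain ⟨i, rfl⟩ := mem_zpowers_iff.1 hy
  have h2 : v ^ (2 : ℤ) = 1 := by rw [zpow_two, hv]
  rcases Int.even_or_odd i with ⟨k, rfl⟩ | ⟨k, rfl⟩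
  · exact Or.inl (by rw [← two_mul, zpow_mul, h2, one_zpow])
  · exact Or.inr (by rw [zpow_add, zpow_mul, h2, one_zpow, one_mul, zpow_one])

theorem normalizer_invol {v : G} (hv : orderOf v = 2) :
    normalizer ((zpowers v : Subgroup G) : Set G) = centralizer {v} := by
  have hvv := invol_mul_self hv
  refine le_antisymm (fun x hx => mem_centralizer_singleton_iff.2 ?_) fun x hx => ?_
  · rcases mem_two hvv (conj_mem hx) with e | e
    · exact absurd (conj_eq_one_iff.1 e) (invol_ne_one hv)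
    · exact mul_inv_eq_iff_eq_mul.1 e
  · have hc : Commute x v := mem_centralizer_singleton_iff.1 hx
    refine mem_normalizer_iff.2 fun y => ⟨fun hy => ?_, fun hy => ?_⟩
    · obtain ⟨i, rfl⟩ := mem_zpowers_iff.1 hy
      rw [(hc.zpow_right i).eq, mul_inv_cancel_right]
      exact zpow_mem (mem_zpowers v) i
    · obtain ⟨i, hi⟩ := mem_zpowers_iff.1 hy
      rw [show y = x⁻¹ * (x * y * x⁻¹) * x by group, ← hi, (hc.inv_left.zpow_right i).eq,
        inv_mul_cancel_right]
      exact zpow_mem (mem_zpowers v) i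

theorem eq_one_of_sq_odd {a : G} (ha : Odd (orderOf a)) (h : a * a = 1) : a = 1 := by
  have h1 : orderOf a ∣ 2 := orderOf_dvd_of_pow_eq_one (by rw [sq, h])
  rcases (Nat.dvd_prime Nat.prime_two).1 h1 with e | e
  · exact orderOf_eq_one_iff.1 e
  · rw [e] at ha; exact absurd ha (by decide)

theorem mem_zpowers_sq {a : G} (ha : Odd (orderOf a)) : a ∈ zpowers (a * a) := by
  obtain ⟨k, hk⟩ := ha
  refine mem_zpowers_iff.2 ⟨((k + 1 : ℕ) : ℤ), ?_⟩
  rw [zpow_natCast, ← sq, ← pow_mul, show 2 * (k + 1) = orderOf a + 1 by omega, pow_succ,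
    pow_orderOf_eq_one, one_mul]

/-- An element of odd order commutes with anything its square commutes with. -/
theorem commute_of_sq {a x : G} (ha : Odd (orderOf a)) (h : Commute (a * a) x) : Commute a x := by
  obtain ⟨i, hi⟩ := mem_zpowers_iff.1 (mem_zpowers_sq ha)
  rw [← hi]
  exact h.zpow_left i

variable [Finite G] (hii : NEq G)
include hii

theorem normalizer_eq {g v y : G} (hv : orderOf v = 2) (hvg : v ∈ zpowers g)
    (hy : y ∈ zpowers g) (hy1 : y ≠ 1) :
    normalizer ((zpowers y : Subgroup G) : Set G) = centralizer {v} := by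
  have hev : Even (Nat.card (zpowers g)) :=
    even_iff_two_dvd.2 (hv ▸ Subgroup.orderOf_dvd_natCard _ hvg)
  rw [← hii _ inferInstance hev _ ((zpowers_le).2 hy) (by simpa using hy1),
    hii _ inferInstance hev _ ((zpowers_le).2 hvg) (by simpa using invol_ne_one hv),
    normalizer_invol hv]

theorem normalizer_odd {a v : G} (hv : orderOf v = 2) (ha : Odd (orderOf a)) (ha1 : a ≠ 1)
    (hc : Commute a v) : normalizer ((zpowers a : Subgroup G) : Set G) = centralizer {v} := by
  have h2 : a * a ∈ zpowers (a * v) := by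
    rw [show a * a = (a * v) ^ 2 by rw [hc.mul_pow, sq v, invol_mul_self hv, mul_one, sq]]
    exact pow_mem (mem_zpowers _) 2
  have ha' : a ∈ zpowers (a * v) := (zpowers_le).2 h2 (mem_zpowers_sq ha)
  have hv' : v ∈ zpowers (a * v) := by
    have := mul_mem (inv_mem ha') (mem_zpowers (a * v))
    rwa [inv_mul_cancel_left] at this
  exact normalizer_eq hii hv hv' ha' ha1

theorem conj_mem_odd {a v x : G} (hv : orderOf v = 2) (ha : Odd (orderOf a)) (hc : Commute a v)
    (hx : Commute x v) : x * a * x⁻¹ ∈ zpowers a := by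
  by_cases ha1 : a = 1
  · simp [ha1]
  · exact conj_mem (by rw [normalizer_odd hii hv ha ha1 hc]; exact mem_centralizer_singleton_iff.2 hx)

theorem conj_mem_even {g v x : G} (hv : orderOf v = 2) (hvg : v ∈ zpowers g) (hx : Commute x v) :
    x * g * x⁻¹ ∈ zpowers g := by
  refine conj_mem ?_
  rw [normalizer_eq hii hv hvg (mem_zpowers g) fun e => invol_ne_one hv (by simpa [e] using hvg)]
  exact mem_centralizer_singleton_iff.2 hx

/-- An odd element commuting with two involutions. -/
theorem cent_eq {a v w : G} (hv : orderOf v = 2) (hw : orderOf w = 2) (ha : Odd (orderOf a))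
    (ha1 : a ≠ 1) (hav : Commute a v) (haw : Commute a w) :
    centralizer ({v} : Set G) = centralizer {w} :=
  (normalizer_odd hii hv ha ha1 hav).symm.trans (normalizer_odd hii hw ha ha1 haw)

theorem inv_of_ne {a v w : G} (hv : orderOf v = 2) (hw : orderOf w = 2) (hvw : Commute v w)
    (ha : Odd (orderOf a)) (hav : Commute a v)
    (hne : centralizer ({v} : Set G) ≠ centralizer {w}) : w * a * w⁻¹ = a⁻¹ := by
  obtain ⟨i, hi⟩ := mem_zpowers_iff.1 (conj_mem_odd hii hv ha hav hvw.symm)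
  have hb : a * (w * a * w⁻¹) ∈ zpowers a := mul_mem (mem_zpowers a) (hi ▸ zpow_mem (mem_zpowers a) i)
  have hbw : Commute (a * (w * a * w⁻¹)) w := by
    show _ = _
    have hcomm : a * (w * a * w⁻¹) = w * a * w⁻¹ * a := by rw [← hi, ← zpow_one_add, ← zpow_add_one, add_comm]
    calc a * (w * a * w⁻¹) * w = a * w * a := by group
      _ = w * (w * a * w⁻¹) * a := by
        rw [← mul_assoc, ← mul_assoc, invol_mul_self hw, one_mul, invol_inv hw]
      _ = w * (a * (w * a * w⁻¹)) := by rw [hcomm]; group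
  obtain ⟨j, hj⟩ := mem_zpowers_iff.1 hb
  by_contra hcon
  refine hne (cent_eq hii hv hw (a := a * (w * a * w⁻¹)) ?_ ?_ ?_ hbw)
  · exact ha.of_dvd_nat (orderOf_dvd_of_mem_zpowers hb)
  · exact fun e => hcon (eq_inv_of_mul_eq_one_right e)
  · rw [← hj]; exact hav.zpow_left j

theorem odd_mul {a b v : G} (hv : orderOf v = 2) (ha : Odd (orderOf a)) (hb : Odd (orderOf b))
    (hav : Commute a v) (hbv : Commute b v) : Odd (orderOf (a * b)) := by
  have key : ∀ n : ℕ, (a * b) ^ n * (b ^ n)⁻¹ ∈ zpowers a := by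
    intro n
    induction n with
    | zero => simp
    | succ n ih =>
      have hp : (a * b) ^ n * a * ((a * b) ^ n)⁻¹ ∈ zpowers a :=
        conj_mem_odd hii hv ha hav ((hav.mul_left hbv).pow_left n)
      rw [show (a * b) ^ (n + 1) * (b ^ (n + 1))⁻¹ =
          (a * b) ^ n * a * ((a * b) ^ n)⁻¹ * ((a * b) ^ n * (b ^ n)⁻¹) by
        rw [pow_succ, pow_succ]; group]
      exact mul_mem hp ih
  have h := key (orderOf b)
  rw [pow_orderOf_eq_one, inv_one, mul_one] at h
  refine (hb.mul ha).of_dvd_nat (orderOf_dvd_of_pow_eq_one ?_)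
  obtain ⟨i, hi⟩ := mem_zpowers_iff.1 h
  rw [pow_mul, ← hi, ← zpow_natCast, ← zpow_mul, mul_comm, zpow_mul, zpow_natCast,
    pow_orderOf_eq_one, one_zpow]

omit hii in
theorem orderOf_conj_eq (x a : G) : orderOf (x * a * x⁻¹) = orderOf a :=
  orderOf_injective (MulAut.conj x).toMonoidHom (MulAut.conj x).injective a

/-- `C(v)` is the product of its odd elements and a Sylow subgroup. -/
theorem exists_mul {v x : G} (hv : orderOf v = 2) (T : Sylow 2 G)
    (hT : (T : Subgroup G) ≤ centralizer {v}) (hx : Commute x v) :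
    ∃ a : G, Commute a v ∧ Odd (orderOf a) ∧ ∃ t ∈ (T : Subgroup G), x = a * t := by
  haveI : Fact (Nat.Prime 2) := ⟨Nat.prime_two⟩
  set C := centralizer ({v} : Set G)
  have hC : ∀ y : C, Commute (y : G) v := fun y => mem_centralizer_singleton_iff.1 y.2
  let K : Subgroup C :=
    { carrier := {y | Odd (orderOf (y : G))}
      one_mem' := by simp
      mul_mem' := fun {a b} ha hb => odd_mul hii hv ha hb (hC a) (hC b)
      inv_mem' := fun {a} ha => by simpa using ha }
  haveI : K.Normal := ⟨fun a ha g => by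
    show Odd (orderOf ((g : G) * (a : G) * (g : G)⁻¹))
    rw [orderOf_conj_eq]; exact ha⟩
  have hp : IsPGroup 2 (C ⧸ K) := by
    intro q
    obtain ⟨y, rfl⟩ := QuotientGroup.mk_surjective q
    obtain ⟨k, m, hm, hkm⟩ := Nat.exists_eq_two_pow_mul_odd (orderOf_pos (y : G)).ne'
    refine ⟨k, (QuotientGroup.eq_one_iff (y ^ 2 ^ k)).2 ?_⟩
    show Odd (orderOf ((y : G) ^ 2 ^ k))
    rw [orderOf_pow_of_dvd (by positivity) (hkm ▸ dvd_mul_right _ _), hkm,
      Nat.mul_div_cancel_left _ (by positivity)]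
    exact hm
  let Q := (T.subtype hT).mapSurjective (f := QuotientGroup.mk' K) (QuotientGroup.mk'_surjective K)
  have hQ : (⊤ : Subgroup (C ⧸ K)) = Q := Q.3 (hp.to_subgroup ⊤) le_top
  have hmem : QuotientGroup.mk' K ⟨x, mem_centralizer_singleton_iff.2 hx⟩ ∈ (Q : Subgroup (C ⧸ K)) :=
    hQ ▸ mem_top _
  rw [Sylow.coe_mapSurjective] at hmem
  obtain ⟨t, ht, hteq⟩ := hmem
  have h1 : (⟨x, mem_centralizer_singleton_iff.2 hx⟩ : C) * t⁻¹ ∈ K := by
    rw [← QuotientGroup.eq_one_iff, ← QuotientGroup.mk'_apply, map_mul, map_inv, hteq,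
      mul_inv_cancel]
  refine ⟨x * (t : G)⁻¹, hx.mul_left (hC t).inv_left, h1, t, ?_, by group⟩
  simpa [Sylow.coe_subtype, Subgroup.mem_subgroupOf] using ht

omit hii in
/-- Dedekind groups contain a quaternion pair unless abelian. -/
theorem exists_pair (S : Subgroup G) (hn : ∀ x ∈ S, ∀ y ∈ S, x * y * x⁻¹ ∈ zpowers y) :
    (∀ x ∈ S, ∀ y ∈ S, x * y = y * x) ∨
      ∃ x ∈ S, ∃ y ∈ S, orderOf x = 4 ∧ y * y = x * x ∧ y * x * y⁻¹ = x⁻¹ := by
  refine or_iff_not_imp_left.2 fun hna => ?_
  have hN : ∀ H : Subgroup S, H.Normal := fun H => ⟨fun n hnH g => by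
    obtain ⟨i, hi⟩ := mem_zpowers_iff.1 (hn g g.2 n n.2)
    rw [show g * n * g⁻¹ = n ^ i from Subtype.ext (by push_cast; exact hi.symm)]
    exact zpow_mem hnH i⟩
  push Not at hna
  obtain ⟨a, ha, b, hb, hab⟩ := hna
  obtain ⟨x, y, -, hx, hy, hxy⟩ := FgsC.Hamiltonian.exists_quaternion_pair hN
    ⟨⟨a, ha⟩, ⟨b, hb⟩, fun e => hab (congrArg Subtype.val e)⟩
  exact ⟨x, x.2, y, y.2, by rw [orderOf_coe, hx], congrArg Subtype.val hy,
    congrArg Subtype.val hxy⟩

/-- The odd elements of `C(v)` commute. -/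
theorem commute_odd {a b v : G} (hv : orderOf v = 2) (ha : Odd (orderOf a)) (hb : Odd (orderOf b))
    (hav : Commute a v) (hbv : Commute b v) : Commute a b := by
  let K : Subgroup G :=
    { carrier := {y | Odd (orderOf y) ∧ Commute y v}
      one_mem' := ⟨by simp, Commute.one_left v⟩
      mul_mem' := fun {a b} ha hb => ⟨odd_mul hii hv ha.1 hb.1 ha.2 hb.2, ha.2.mul_left hb.2⟩
      inv_mem' := fun {a} ha => ⟨by simpa using ha.1, ha.2.inv_left⟩ }
  rcases exists_pair K fun x hx y hy => conj_mem_odd hii hv hy.1 hy.2 hx.2 with h | h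
  · exact h a ⟨ha, hav⟩ b ⟨hb, hbv⟩
  · obtain ⟨x, hx, y, -, h4, -, -⟩ := h
    have := hx.1
    rw [h4] at this
    exact absurd this (by decide)

end CfsgLib.DGroup.II
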