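import Cfsg.Agent.Lib.DGroup.II.Roots

/-!
# Reduction to the classification by D-groups
-/

set_option autoImplicit false
set_option linter.unusedSectionVars false
set_option linter.style.haveILetI false

namespace CfsgLib.DGroup.II

open Subgroup CfsgLib.Involutions

universe u

variable {G : Type u} [Group G]

/-- No nontrivial solvable normal subgroup. -/
def SS (G : Type u) [Group G] : Prop :=
  ∀ N : Subgroup G, N.Normal → Group.IsSolvable N → N = ⊥

section
variable {F : Type*} [Field F] [Finite F] [CharP F 2]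

theorem sq_one_of_commute_invol {y s : Matrix.SpecialLinearGroup (Fin 2) F} (hs : orderOf s = 2)
    (h : Commute y s) : y * y = 1 := by
  have h2 : (2 : F) = 0 := CharTwo.two_eq_zero
  obtain ⟨P, hP⟩ := exists_conj_stdInvol s (invol_mul_self hs) (invol_ne_one hs)
  have hc : Commute (P⁻¹ * y * P) stdInvol := by
    show _ = _
    calc P⁻¹ * y * P * stdInvol = P⁻¹ * (y * s) * P := by rw [mul_assoc, ← hP]; group
      _ = P⁻¹ * (s * P) * (P⁻¹ * y * P) := by rw [h.eq]; group
      _ = stdInvol * (P⁻¹ * y * P) := by rw [hP, inv_mul_cancel_left]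
  suffices key : P⁻¹ * y * P * (P⁻¹ * y * P) = 1 by
    calc y * y = P * (P⁻¹ * y * P * (P⁻¹ * y * P)) * P⁻¹ := by group
      _ = 1 := by rw [key, mul_one, mul_inv_cancel]
  set w := P⁻¹ * y * P
  set M := (w : Matrix (Fin 2) (Fin 2) F) with hM
  have hm : M * !![1, 1; 0, 1] = !![1, 1; 0, 1] * M := congrArg Subtype.val hc.eq
  have hdet : M 0 0 * M 1 1 - M 0 1 * M 1 0 = 1 := by
    have := w.2
    rwa [Matrix.det_fin_two] at this
  have e00 := congrFun (congrFun hm 0) 0
  have e01 := congrFun (congrFun hm 0) 1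
  simp [Matrix.mul_apply, Fin.sum_univ_two] at e00 e01
  have hc0 : M 1 0 = 0 := e00
  have had : M 0 0 = M 1 1 := by linear_combination e01
  apply Matrix.SpecialLinearGroup.ext
  intro i j
  rw [Matrix.SpecialLinearGroup.coe_mul, Matrix.SpecialLinearGroup.coe_one, Matrix.mul_apply,
    Fin.sum_univ_two, ← hM]
  fin_cases i <;> fin_cases j <;> simp [hc0, ← had]
  · rw [← had, hc0] at hdet; linear_combination hdet
  · linear_combination (M 0 1 * M 0 0) * h2
  · rw [← had, hc0] at hdet; linear_combination hdet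

end

variable [Finite G]

theorem oddCore_eq_bot (hss : SS G) : Cfsg.oddCore G = ⊥ := by
  haveI : (Cfsg.oddCore G).Normal := by unfold Cfsg.oddCore; infer_instance
  exact hss _ inferInstance (CfsgLib.FT.isSolvable_of_odd (Base.odd_card_oddCore G))

theorem not_solvable [Nontrivial G] (hss : SS G) : ¬ Group.IsSolvable G := by
  intro h
  haveI := h
  exact top_ne_bot (hss ⊤ inferInstance inferInstance)

theorem four_dvd [Nontrivial G] (hss : SS G) (T : Sylow 2 G) :
    4 ∣ Nat.card (T : Subgroup G) := by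
  haveI : Fact (Nat.Prime 2) := ⟨Nat.prime_two⟩
  obtain ⟨k, hk⟩ := IsPGroup.iff_card.1 T.isPGroup'
  rw [hk]
  by_contra h
  refine not_solvable hss (isSolvable_of_isCyclic T ?_)
  match k, hk, h with
  | 0, hk, _ =>
    haveI := (Nat.card_eq_one_iff_unique.1 (by rw [hk, pow_zero] : Nat.card (T : Subgroup G) = 1)).1
    infer_instance
  | 1, hk, _ => exact isCyclic_of_prime_card (p := 2) (by rw [hk, pow_one])
  | k + 2, _, h => exact absurd (pow_dvd_pow 2 (show 2 ≤ k + 2 by omega)) h

theorem out_of_classify [Nontrivial G] (hss : SS G) (H A : Subgroup G) (hAH : A < H)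
    (hD : ∀ x ∈ H, x ∉ A → x * x = 1) (T : Sylow 2 G) (hTH : (T : Subgroup G) ≤ H)
    (hC : ∀ j ∈ H, orderOf j = 2 → (∀ h ∈ H, h * j = j * h) → centralizer ({j} : Set G) = H) :
    Out G := by
  haveI : Fact (Nat.Prime 2) := ⟨Nat.prime_two⟩
  obtain ⟨N, hN, hcard, F, iF, iFt, hF, h⟩ := classify H A hAH
    (fun x hx hxA => by rw [sq]; exact hD x hx hxA)
    ((four_dvd hss T).trans (card_dvd_of_le hTH)) hC (not_solvable hss)
  have hbot : N = ⊥ := by
    refine hss N hN ?_
    rcases hcard with ho | ⟨m, hm, hcm⟩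
    · exact CfsgLib.FT.isSolvable_of_odd ho
    · obtain ⟨P⟩ : Nonempty (Sylow 2 N) := inferInstance
      refine isSolvable_of_isCyclic P ?_
      obtain ⟨k, hk⟩ := IsPGroup.iff_card.1 P.isPGroup'
      match k, hk with
      | 0, hk =>
        haveI := (Nat.card_eq_one_iff_unique.1 (by rw [hk, pow_zero] : Nat.card (P : Subgroup N) = 1)).1
        infer_instance
      | 1, hk => exact isCyclic_of_prime_card (p := 2) (by rw [hk, pow_one])
      | k + 2, hk =>
        exfalso
        have h4 : 2 ^ 2 ∣ Nat.card N :=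
          (pow_dvd_pow 2 (show 2 ≤ k + 2 by omega)).trans (hk ▸ card_subgroup_dvd_card _)
        rw [hcm] at h4
        obtain ⟨r, hr⟩ := h4
        obtain ⟨q, rfl⟩ := hm
        omega
  subst hbot
  exact ⟨F, iF, iFt, hF, h.imp (fun ⟨e⟩ => ⟨QuotientGroup.quotientBot.symm.trans e⟩)
    fun ⟨e⟩ => ⟨QuotientGroup.quotientBot.symm.trans e⟩⟩

/-- If the centralizers of the involutions of a Sylow subgroup are abelian, they have exponent
two. -/
theorem sq_one_of_comm [Nontrivial G] (hss : SS G) (T : Sylow 2 G)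
    (hcomm : ∀ t ∈ (T : Subgroup G), orderOf t = 2 →
      ∀ x y : G, Commute x t → Commute y t → Commute x y)
    {x t : G} (ht : orderOf t = 2) (hx : Commute x t) : x * x = 1 := by
  haveI : Fact (Nat.Prime 2) := ⟨Nat.prime_two⟩
  have hsetup : CharsMore.AbCent.Setup T := by
    refine ⟨fun hc => not_solvable hss (isSolvable_of_isCyclic T hc), fun hn => ?_, fun s hs => ?_⟩
    · haveI := T.isPGroup'.isNilpotent
      have h1 := four_dvd hss T
      rw [hss _ hn inferInstance, Subgroup.card_bot] at h1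
      exact absurd h1 (by norm_num)
    · obtain ⟨g, hg⟩ := exists_conj_le T (isPGroup_zpowers_invol hs)
      have key : ∀ a ∈ centralizer ({s} : Set G), Commute (g * a * g⁻¹) (g * s * g⁻¹) := fun a ha =>
        Commute.map (mem_centralizer_singleton_iff.1 ha : Commute a s) (MulAut.conj g).toMonoidHom
      refine ⟨⟨fun a b => Subtype.ext ?_⟩⟩
      have h := hcomm _ (hg s (mem_zpowers s)) (by rw [orderOf_conj_eq]; exact hs) _ _
        (key a a.2) (key b b.2)
      exact (MulAut.conj g).injective (by rw [coe_mul, coe_mul, map_mul, map_mul]; exact h.eq)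
  obtain ⟨F, iF, iFt, A, iA, iAf, hchar, hodd, ⟨e⟩⟩ := CharsMore.AbCent.exists_iso_prod hsetup
  let π : G →* Matrix.SpecialLinearGroup (Fin 2) F := (MonoidHom.fst _ _).comp e.toMonoidHom
  have hker : π.ker = ⊥ := by
    refine hss _ inferInstance ?_
    refine Group.isSolvable_of_isSolvable_injective
      (f := ((MonoidHom.snd _ _).comp e.toMonoidHom).comp π.ker.subtype) ?_
    rintro ⟨a, ha⟩ ⟨b, hb⟩ hab
    exact Subtype.ext (e.injective (Prod.ext (ha.trans hb.symm) hab))
  have hinj : Function.Injective π := (MonoidHom.ker_eq_bot_iff π).1 hker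
  apply hinj
  rw [map_mul, map_one]
  exact sq_one_of_commute_invol (by rw [orderOf_injective π hinj]; exact ht) (hx.map π)

variable (hii : NEq G)
include hii

/-- An element outside `C(g)` has square one if this holds for 2-elements. -/
theorem sq_one_of_two_el {g z x : G} (hz : orderOf z = 2) (hgz : g * g = z) (hxz : Commute x z)
    (hxg : ¬ Commute x g)
    (h2 : ∀ y : G, (∃ k : ℕ, orderOf y = 2 ^ k) → Commute y z → ¬ Commute y g → y * y = 1) :
    x * x = 1 := by
  obtain ⟨k, m, hm, hkm⟩ := Nat.exists_eq_two_pow_mul_odd (orderOf_pos x).ne'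
  have hmd : m ∣ orderOf x := hkm ▸ dvd_mul_left _ _
  have ha : Odd (orderOf (x ^ 2 ^ k)) := by
    rw [orderOf_pow_of_dvd (by positivity) (hkm ▸ dvd_mul_right _ _), hkm,
      Nat.mul_div_cancel_left _ (by positivity)]
    exact hm
  have hag : Commute (x ^ 2 ^ k) g :=
    commute_of_sq ha (commute_sq_of_conj (root_conj hii hz hgz (hxz.pow_left _)))
  have hy : orderOf (x ^ m) = 2 ^ k := by
    rw [orderOf_pow_of_dvd hm.pos.ne' hmd, hkm, Nat.mul_div_cancel _ hm.pos]
  have hyg : ¬ Commute (x ^ m) g := fun h => hxg (by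
    have hco : Nat.gcd (2 ^ k) m = 1 := Nat.Coprime.pow_left k hm.coprime_two_left
    have hb := Nat.gcd_eq_gcd_ab (2 ^ k) m
    rw [hco] at hb
    have hx' : x = (x ^ 2 ^ k) ^ (Nat.gcdA (2 ^ k) m) * (x ^ m) ^ (Nat.gcdB (2 ^ k) m) := by
      rw [← zpow_natCast x (2 ^ k), ← zpow_natCast x m, ← zpow_mul, ← zpow_mul, ← zpow_add, ← hb,
        Nat.cast_one, zpow_one]
    rw [hx']
    exact (hag.zpow_left _).mul_left (h.zpow_left _))
  have hyy := h2 _ ⟨k, hy⟩ (hxz.pow_left _) hyg
  have hyo : orderOf (x ^ m) = 2 := invol_of hyy fun e => hyg (e ▸ Commute.one_left g)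
  have ha1 : x ^ 2 ^ k = 1 := by
    by_contra hne
    refine hyg ?_
    have hC := cent_eq hii hyo hz ha hne ((Commute.refl x).pow_pow _ _) (hxz.pow_left _)
    have hg : g ∈ centralizer ({x ^ m} : Set G) := by
      rw [hC]; exact mem_centralizer_singleton_iff.2 (by rw [← hgz, mul_assoc])
    exact (mem_centralizer_singleton_iff.1 hg : Commute g (x ^ m)).symm
  have h3 : orderOf x ∣ 2 := by
    rw [← hyo, hy]
    exact orderOf_dvd_of_pow_eq_one ha1
  rw [← sq]
  exact orderOf_dvd_iff_pow_eq_one.1 h3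

/-- Some element inverts `g` and all such have square one. -/
theorem out_of_inverting [Nontrivial G] (hss : SS G) (T : Sylow 2 G) {g z u : G}
    (hz : orderOf z = 2) (hgz : g * g = z) (hTH : (T : Subgroup G) ≤ centralizer {z})
    (huz : Commute u z) (hug : u * g * u⁻¹ = g⁻¹)
    (hout : ∀ x : G, Commute x z → ¬ Commute x g → x * x = 1) : Out G := by
  have hAH : centralizer ({g} : Set G) ≤ centralizer {z} := fun x hx => by
    have hc : Commute x g := mem_centralizer_singleton_iff.1 hx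
    exact mem_centralizer_singleton_iff.2 (hgz ▸ hc.mul_right hc)
  have hgg : Commute g z := hgz ▸ (Commute.refl g).mul_right (Commute.refl g)
  refine out_of_classify hss (centralizer {z}) (centralizer {g}) (lt_of_le_of_ne hAH fun e => ?_)
    (fun x hx hxg => hout x (mem_centralizer_singleton_iff.1 hx) fun hc =>
      hxg (mem_centralizer_singleton_iff.2 hc)) T hTH fun j hj hjo hjc => ?_
  · have hu : u ∈ centralizer ({g} : Set G) := e ▸ mem_centralizer_singleton_iff.2 huz
    have hc : Commute u g := mem_centralizer_singleton_iff.1 hu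
    exact ne_inv_of_root hz hgz (by rw [← hug, hc.eq, mul_inv_cancel_right])
  by_contra hne
  have hjc' : ∀ h, Commute h z → Commute h j := fun h hh =>
    hjc h (mem_centralizer_singleton_iff.2 hh)
  by_cases hK : ∃ a : G, Commute a z ∧ Odd (orderOf a) ∧ a ≠ 1
  · obtain ⟨a, haz, hao, ha1⟩ := hK
    exact hne (cent_eq hii hjo hz hao ha1 (hjc' a haz) haz)
  push Not at hK
  have hHT : centralizer ({z} : Set G) ≤ T := fun x hx => by
    obtain ⟨a, haz, hao, t, ht, rfl⟩ := exists_mul hii hz T hTH (mem_centralizer_singleton_iff.1 hx)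
    rw [hK a haz hao, one_mul]; exact ht
  have hTj : (T : Subgroup G) ≤ centralizer {j} := fun x hx =>
    mem_centralizer_singleton_iff.2 (hjc' x (mem_centralizer_singleton_iff.1 (hTH hx)))
  have hne' : ¬ centralizer ({j} : Set G) ≤ centralizer {z} := fun h =>
    hne (le_antisymm h fun x hx => hTj (hHT hx))
  obtain ⟨x, hxj, hxz⟩ := SetLike.not_le_iff_exists.1 hne'
  obtain ⟨a, haj, hao, t, ht, rfl⟩ := exists_mul hii hjo T hTj (mem_centralizer_singleton_iff.1 hxj)
  have ha1 : a ≠ 1 := fun e => hxz (by rw [e, one_mul]; exact hTH ht)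
  have hza : z * a * z⁻¹ = a⁻¹ :=
    inv_of_ne hii hjo hz (hjc' z (Commute.refl z)).symm hao haj hne
  obtain ⟨m, hm⟩ := mem_zpowers_iff.1 (conj_mem_odd hii hjo hao haj (hjc' u huz))
  obtain ⟨n, hn⟩ := mem_zpowers_iff.1 (conj_mem_odd hii hjo hao haj (hjc' g hgg))
  have h1 : u * (g * a * g⁻¹) * u⁻¹ = g * (u * a * u⁻¹) * g⁻¹ := by
    rw [← hn, ← hm, ← conj_zpow, ← conj_zpow, ← hm, ← hn, ← zpow_mul, ← zpow_mul, mul_comm]
  have hz2 : (g * u)⁻¹ * (u * g) = z⁻¹ := by
    calc (g * u)⁻¹ * (u * g) = u⁻¹ * g⁻¹ * (u * g * u⁻¹) * u := by group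
      _ = u⁻¹ * (g * g)⁻¹ * u := by rw [hug]; group
      _ = z⁻¹ := by rw [hgz, mul_assoc, ← huz.inv_right.eq, inv_mul_cancel_left]
  have h2 : z⁻¹ * a * z⁻¹⁻¹ = a := by
    rw [← hz2]
    calc (g * u)⁻¹ * (u * g) * a * ((g * u)⁻¹ * (u * g))⁻¹
        = u⁻¹ * g⁻¹ * (u * (g * a * g⁻¹) * u⁻¹) * g * u := by group
      _ = a := by rw [h1]; group
  rw [invol_inv hz, hza] at h2
  exact ha1 (eq_one_of_sq_odd hao (mul_eq_one_iff_eq_inv.2 h2.symm))

end CfsgLib.DGroup.II
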