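import Cfsg.Agent.Lib.DGroup.II.Classify

/-!
# Groups in which the subgroups of a cyclic group of even order have the same normalizer: the
classification
-/

set_option autoImplicit false
set_option linter.unusedSectionVars false
set_option linter.style.haveILetI false

namespace CfsgLib.DGroup.II

open Subgroup CfsgLib.Involutions

universe u

variable {G : Type u} [Group G] [Finite G] [Nontrivial G]

theorem case_exponent_two (hii : NEq G) (hss : SS G) (T : Sylow 2 G)
    (h2 : ∀ t ∈ (T : Subgroup G), t * t = 1) : Out G := by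
  have hcT : ∀ a ∈ (T : Subgroup G), ∀ b ∈ (T : Subgroup G), Commute a b := fun a ha b hb => by
    have hinv : ∀ c ∈ (T : Subgroup G), c⁻¹ = c := fun c hc =>
      inv_eq_of_mul_eq_one_right (h2 c hc)
    show a * b = b * a
    rw [← hinv _ (mul_mem ha hb), mul_inv_rev, hinv a ha, hinv b hb]
  have hTC : ∀ t ∈ (T : Subgroup G), (T : Subgroup G) ≤ centralizer {t} := fun t ht x hx =>
    mem_centralizer_singleton_iff.2 (hcT x hx t ht)
  by_cases hK : ∃ z ∈ (T : Subgroup G), orderOf z = 2 ∧
      ∃ a : G, Commute a z ∧ Odd (orderOf a) ∧ a ≠ 1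
  swap
  · push Not at hK
    refine out_of_classify hss T ⊥ (bot_lt_iff_ne_bot.2 fun e => ?_) (fun x hx _ => h2 x hx) T
      le_rfl fun j hj hjo _ => ?_
    · have h4 := four_dvd hss T
      rw [e, Subgroup.card_bot] at h4
      exact absurd h4 (by norm_num)
    · refine le_antisymm (fun x hx => ?_) (hTC j hj)
      obtain ⟨a, haj, hao, t, ht, rfl⟩ :=
        exists_mul hii hjo T (hTC j hj) (mem_centralizer_singleton_iff.1 hx)
      rw [hK j hj hjo a haj hao, one_mul]
      exact ht
  obtain ⟨z, hzT, hz, a₀, ha₀z, ha₀o, ha₀1⟩ := hK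
  by_cases hW : ∃ u ∈ (T : Subgroup G), ∃ b : G, Commute b z ∧ Odd (orderOf b) ∧ ¬ Commute u b
  · obtain ⟨u, hu, b, hbz, hbo, hub⟩ := hW
    let A : Subgroup G :=
      centralizer ({z} : Set G) ⊓ centralizer {c | Commute c z ∧ Odd (orderOf c)}
    refine out_of_classify hss (centralizer {z}) A (lt_of_le_of_ne inf_le_left fun e => ?_)
      (fun x hx hxA => ?_) T (hTC z hzT) fun j hj hjo hjc => ?_
    · have hu' : u ∈ A := e.symm ▸ hTC z hzT hu
      exact hub (mem_centralizer_iff.1 hu'.2 b ⟨hbz, hbo⟩).symm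
    · obtain ⟨a, haz, hao, t, ht, rfl⟩ :=
        exists_mul hii hz T (hTC z hzT) (mem_centralizer_singleton_iff.1 hx)
      by_cases htc : ∀ c, Commute c z → Odd (orderOf c) → Commute t c
      · refine absurd ⟨hx, mem_centralizer_iff.2 fun c hc => ?_⟩ hxA
        exact ((commute_odd hii hz hao hc.2 haz hc.1).mul_left (htc c hc.1 hc.2)).symm
      push Not at htc
      obtain ⟨c, hcz, hco, htc⟩ := htc
      have hto : orderOf t = 2 := invol_of (h2 t ht) fun e => htc (e ▸ Commute.one_left c)
      have hne : centralizer ({z} : Set G) ≠ centralizer {t} := fun e => htc (by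
        have hc : c ∈ centralizer ({t} : Set G) := e ▸ mem_centralizer_singleton_iff.2 hcz
        exact (mem_centralizer_singleton_iff.1 hc : Commute c t).symm)
      have hinv := inv_of_ne hii hz hto (hcT z hzT t ht) hao haz hne
      calc a * t * (a * t) = a * (t * a * t⁻¹) * (t * t) := by group
        _ = 1 := by rw [hinv, h2 t ht, mul_one, mul_inv_cancel]
    · exact cent_eq hii hjo hz ha₀o ha₀1 (hjc a₀ (mem_centralizer_singleton_iff.2 ha₀z)) ha₀z
  push Not at hW
  exfalso
  have hab : ∀ x y : G, Commute x z → Commute y z → Commute x y := fun x y hx hy => by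
    obtain ⟨a, haz, hao, t, ht, rfl⟩ := exists_mul hii hz T (hTC z hzT) hx
    obtain ⟨b, hbz, hbo, s, hs, rfl⟩ := exists_mul hii hz T (hTC z hzT) hy
    exact ((commute_odd hii hz hao hbo haz hbz).mul_right (hW s hs a haz hao).symm).mul_left
      ((hW t ht b hbz hbo).mul_right (hcT t ht s hs))
  have hcomm : ∀ t ∈ (T : Subgroup G), orderOf t = 2 →
      ∀ x y : G, Commute x t → Commute y t → Commute x y := fun t ht hto x y hx hy => by
    have hC := cent_eq hii hto hz ha₀o ha₀1 (hW t ht a₀ ha₀z ha₀o).symm ha₀z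
    have conv : ∀ w : G, Commute w t → Commute w z := fun w hw => by
      have h : w ∈ centralizer ({z} : Set G) := hC ▸ mem_centralizer_singleton_iff.2 hw
      exact mem_centralizer_singleton_iff.1 h
    exact hab x y (conv x hx) (conv y hy)
  exact ha₀1 (eq_one_of_sq_odd ha₀o (sq_one_of_comm hss T hcomm hz ha₀z))

theorem commute_of_root {g z : G} (hgz : g * g = z) : Commute g z :=
  hgz ▸ (Commute.refl g).mul_right (Commute.refl g)

/-- The conjugate involution inverts the root. -/
theorem case_minus (hii : NEq G) (hss : SS G) (T : Sylow 2 G) {g g₁ z z' : G}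
    (hz : orderOf z = 2) (hz' : orderOf z' = 2) (hgz : g * g = z) (hg₁ : g₁ * g₁ = z')
    (hTH : (T : Subgroup G) ≤ centralizer {z}) (hzz' : Commute z' z)
    (hinv : z' * g * z'⁻¹ = g⁻¹) : Out G := by
  have hzi := invol_inv hz
  have hz'i := invol_inv hz'
  have hgne := ne_inv_of_root hz hgz
  have h_i : ∀ y : G, y * y = z → z' * y * z'⁻¹ = y⁻¹ := by
    intro y hy
    rcases root_conj hii hz hy hzz' with e | e
    swap
    · exact e
    exfalso
    have hyz' : Commute y z' := (mul_inv_eq_iff_eq_mul.1 e : Commute z' y).symm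
    have hzg₁ : Commute g₁ z := (hy ▸ commute_sq_of_conj (root_conj hii hz' hg₁ hyz') : Commute z g₁).symm
    have hz'g : Commute z' g := hg₁ ▸ commute_sq_of_conj (root_conj hii hz hgz hzg₁)
    rw [hz'g.eq, mul_inv_cancel_right] at hinv
    exact hgne hinv
  have h_ii : ∀ y₁ y₂ : G, y₁ * y₁ = z → y₂ * y₂ = z → Commute y₁ y₂ := by
    intro y₁ y₂ h1 h2
    rcases root_conj hii hz h2 (commute_of_root h1) with e | e
    · exact mul_inv_eq_iff_eq_mul.1 e
    have h12 : y₁ * y₂ * (y₁ * y₂) = z := by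
      calc y₁ * y₂ * (y₁ * y₂) = y₁ * y₂ * y₁⁻¹ * (y₁ * y₁) * y₂ := by group
        _ = y₂⁻¹ * z * y₂ := by rw [e, h1]
        _ = z := by rw [mul_assoc, ← (commute_of_root h2).eq, inv_mul_cancel_left]
    have h3 := h_i _ h12
    rw [show z' * (y₁ * y₂) * z'⁻¹ = z' * y₁ * z'⁻¹ * (z' * y₂ * z'⁻¹) by group, h_i _ h1,
      h_i _ h2, ← mul_inv_rev, inv_inj] at h3
    exact h3.symm
  refine out_of_inverting hii hss T hz hgz hTH hzz' hinv fun x hxz hxg =>
    sq_one_of_two_el hii hz hgz hxz hxg ?_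
  intro y hy hyz hyg
  by_contra hyy
  obtain ⟨e, hey, heo, hee⟩ := exists_root hy hyy
  have hyy' : Commute (y * y) g := commute_sq_of_conj (root_conj hii hz hgz hyz)
  have hre : Commute g (e * e) := by
    obtain ⟨i, hi⟩ := mem_zpowers_iff.1 hee
    rw [← hi]
    exact hyy'.symm.zpow_right i
  have hinvy : y * g * y⁻¹ = g⁻¹ :=
    (root_conj hii hz hgz hyz).resolve_left fun h => hyg (mul_inv_eq_iff_eq_mul.1 h)
  have hzy : z ∈ zpowers y := by
    have h := mul_mem (conj_mem_even hii heo (mul_mem hey hey) hre) (inv_mem (mem_zpowers y))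
    rwa [show g * y * g⁻¹ * y⁻¹ = g * (y * g * y⁻¹)⁻¹ by group, hinvy, inv_inv, hgz] at h
  have hez : e * e = z := invol_unique heo hz (mul_mem hey hey) hzy
  have hf : z' * y * z' * y ∈ zpowers y := by
    have h := mul_mem (conj_mem_even hii hz hzy hzz') (mem_zpowers y)
    rwa [hz'i] at h
  have hy2g : Commute (z' * y) g := mul_inv_eq_iff_eq_mul.1
    (show z' * y * g * (z' * y)⁻¹ = g by
      rw [show z' * y * g * (z' * y)⁻¹ = (z' * (y * g * y⁻¹)⁻¹ * z'⁻¹)⁻¹ by group, hinvy, inv_inv,
        hinv, inv_inv])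
  set f := z' * y * z' * y with hfdef
  have hfz' : Commute z' f := by
    obtain ⟨i, hi⟩ := mem_zpowers_iff.1
      (show z' * y * z'⁻¹ ∈ zpowers y from conj_mem_even hii hz hzy hzz')
    rw [hz'i] at hi
    have hc : Commute (z' * y * z') y := hi ▸ (Commute.refl y).zpow_left i
    show z' * f = f * z'
    calc z' * (z' * y * z' * y) = z' * z' * (y * z' * y) := by group
      _ = y * z' * y * (z' * z') := by rw [invol_mul_self hz', one_mul, mul_one]
      _ = y * (z' * y * z') * z' := by group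
      _ = z' * y * z' * y * z' := by rw [hc.eq]
  have hff : f * f = 1 := by
    by_contra hff
    obtain ⟨k, hk⟩ := hy
    have hfk : ∃ k : ℕ, orderOf f = 2 ^ k := by
      obtain ⟨l, -, hl⟩ := (Nat.dvd_prime_pow Nat.prime_two).1
        (hk ▸ orderOf_dvd_of_mem_zpowers hf)
      exact ⟨l, hl⟩
    obtain ⟨e', he', he'o, -⟩ := exists_root hfk hff
    have he'y : e' ∈ zpowers y := (zpowers_le).2 hf he'
    have he'z : e' * e' = z := invol_unique he'o hz (mul_mem he'y he'y) hzy
    obtain ⟨i, hi⟩ := mem_zpowers_iff.1 he'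
    have := h_i e' he'z
    rw [← hi, (hfz'.zpow_right i).eq, mul_inv_cancel_right, hi] at this
    exact ne_inv_of_root hz he'z this
  by_cases hf1 : f = 1
  · have hy2 : z' * y * (z' * y) = 1 := by rw [← mul_assoc]; exact hf1
    have hroot : z' * y * g * (z' * y * g) = z := by
      rw [hy2g.symm.mul_mul_mul_comm, hy2, one_mul, hgz]
    have hce : Commute e (z' * y) := by
      have h := (h_ii e _ hez hroot).mul_right (h_ii e g hez hgz).inv_right
      rwa [mul_inv_cancel_right] at h
    obtain ⟨i, hi⟩ := mem_zpowers_iff.1 hey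
    have hcy : Commute e y := hi ▸ (Commute.refl y).zpow_left i
    have hcz' : Commute e z' := by
      have h := hce.mul_right hcy.inv_right
      rwa [mul_inv_cancel_right] at h
    have := h_i e hez
    rw [← hcz'.eq, mul_inv_cancel_right] at this
    exact ne_inv_of_root hz hez this
  · have hfz : z' * y * (z' * y) = z := by
      rw [← mul_assoc]; exact invol_unique (invol_of hff hf1) hz hf hzy
    have h := h_i _ hfz
    rw [mul_inv_rev, hz'i, ← mul_assoc z' z' y, invol_mul_self hz', one_mul, mul_left_inj] at h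
    exact hyy (mul_eq_one_iff_eq_inv.2 h)

/-- The conjugate involution centralizes the root. -/
theorem case_plus (hii : NEq G) (hss : SS G) {g g₁ z z' c : G} (hz : orderOf z = 2)
    (hgz : g * g = z) (hg₁c : g₁ = c * g * c⁻¹) (hz'c : z' = c * z * c⁻¹) (hne : z' ≠ z)
    (hzz' : Commute z' z) (hgz' : Commute g z') : Out G := by
  haveI : Fact (Nat.Prime 2) := ⟨Nat.prime_two⟩
  have hz' : orderOf z' = 2 := by rw [hz'c, orderOf_conj_eq]; exact hz
  have hg₁ : g₁ * g₁ = z' := by rw [hg₁c, hz'c, ← hgz]; group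
  have hzg₁ : Commute g₁ z :=
    (hgz ▸ commute_sq_of_conj (root_conj hii hz' hg₁ hgz') : Commute z g₁).symm
  have hgg : Commute g g₁ := commute_roots hii hz hz' hgz hg₁ hne.symm hgz' hzg₁
  have hpg : ∀ {y w : G}, orderOf w = 2 → y * y = w → IsPGroup 2 (zpowers y) := by
    intro y w hw hy
    have h4 : orderOf y ∣ 2 ^ 2 := orderOf_dvd_of_pow_eq_one
      (by have := pow_four hw hy; exact_mod_cast this)
    obtain ⟨k, -, hk⟩ := (Nat.dvd_prime_pow Nat.prime_two).1 h4
    exact IsPGroup.of_card (n := k) (by rw [Nat.card_zpowers, hk])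
  have hnorm : zpowers g ≤ normalizer ((zpowers g₁ : Subgroup G) : Set G) := by
    rw [zpowers_le, normalizer_eq hii hz' (hg₁ ▸ mul_mem (mem_zpowers g₁) (mem_zpowers g₁))
      (mem_zpowers g₁) fun e => invol_ne_one hz' (by rw [← hg₁, e, one_mul])]
    exact mem_centralizer_singleton_iff.2 hgz'
  obtain ⟨T, hT⟩ := ((hpg hz hgz).to_sup_of_normal_right' (hpg hz' hg₁) hnorm).exists_le_sylow
  have hgT : g ∈ (T : Subgroup G) := hT (mem_sup_left (mem_zpowers g))
  have hg₁T : g₁ ∈ (T : Subgroup G) := hT (mem_sup_right (mem_zpowers g₁))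
  have hzT : (T : Subgroup G) ≤ centralizer {z} := hgz ▸ sq_central hii T hgT (hgz.symm ▸ hz)
  have hz'T : (T : Subgroup G) ≤ centralizer {z'} := hg₁ ▸ sq_central hii T hg₁T (hg₁.symm ▸ hz')
  have hTz : ∀ x ∈ (T : Subgroup G), Commute x z := fun x hx =>
    mem_centralizer_singleton_iff.1 (hzT hx)
  have hTz' : ∀ x ∈ (T : Subgroup G), Commute x z' := fun x hx =>
    mem_centralizer_singleton_iff.1 (hz'T hx)
  set w := z * z' with hw
  have hwo : orderOf w = 2 := invol_of
    (by rw [hw, hzz'.mul_mul_mul_comm, invol_mul_self hz, invol_mul_self hz', one_mul])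
    (fun e => hne ((invol_inv hz ▸ eq_inv_of_mul_eq_one_right e)))
  have hh : g * g₁ * (g * g₁) = w := by
    rw [hgg.symm.mul_mul_mul_comm, hgz, hg₁]
  have hh' : g⁻¹ * g₁ * (g⁻¹ * g₁) = w := by
    rw [(hgg.inv_left).symm.mul_mul_mul_comm, hg₁, ← mul_inv_rev, hgz, invol_inv hz]
  by_cases hA : ∃ u : G, Commute u z ∧ ¬ Commute u g
  · obtain ⟨u, huz, hug⟩ := hA
    refine out_of_inverting hii hss T hz hgz hzT huz
      ((root_conj hii hz hgz huz).resolve_left fun e => hug (mul_inv_eq_iff_eq_mul.1 e))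
      fun x hxz hxg => sq_one_of_two_el hii hz hgz hxz hxg ?_
    intro y₀ hy₀ hy₀z hy₀g
    haveI : Fact (Nat.Prime 2) := ⟨Nat.prime_two⟩
    set C := centralizer ({z} : Set G) with hCdef
    let y₁ : C := ⟨y₀, mem_centralizer_singleton_iff.2 hy₀z⟩
    have hp : IsPGroup 2 (zpowers y₁) := by
      obtain ⟨k, hk⟩ := hy₀
      exact IsPGroup.of_card (n := k) (by rw [Nat.card_zpowers, ← orderOf_coe, hk])
    obtain ⟨s, hs⟩ := exists_conj_le (T.subtype hzT) hp
    have hyT' : (s : G) * y₀ * (s : G)⁻¹ ∈ (T : Subgroup G) := by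
      simpa [Sylow.coe_subtype, mem_subgroupOf, y₁] using hs y₁ (mem_zpowers y₁)
    have hsz : Commute (s : G) z := mem_centralizer_singleton_iff.1 s.2
    suffices key : ∀ y ∈ (T : Subgroup G), ¬ Commute y g → y * y = 1 by
      have hk := key _ hyT' fun hc => hy₀g (by
        have h := Commute.map hc (MulAut.conj (s : G)⁻¹).toMonoidHom
        simp only [MulEquiv.coe_toMonoidHom, MulAut.conj_apply] at h
        rw [show (s : G)⁻¹ * ((s : G) * y₀ * (s : G)⁻¹) * (s : G)⁻¹⁻¹ = y₀ by group] at h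
        rcases root_conj hii hz hgz hsz.inv_left with e | e
        · rwa [e] at h
        · rw [e] at h; simpa using h.inv_right)
      calc y₀ * y₀ = (s : G)⁻¹ * ((s : G) * y₀ * (s : G)⁻¹ * ((s : G) * y₀ * (s : G)⁻¹)) * s := by
            group
        _ = 1 := by rw [hk, mul_one, inv_mul_cancel]
    intro y hyT hyg
    by_contra hyy
    obtain ⟨e, hey, heo, hee⟩ := exists_root (two_el hyT) hyy
    have hyinv : y * g * y⁻¹ = g⁻¹ :=
      (root_conj hii hz hgz (hTz y hyT)).resolve_left fun h => hyg (mul_inv_eq_iff_eq_mul.1 h)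
    have hyinv₁ : y * g₁ * y⁻¹ = g₁⁻¹ := by
      rcases root_conj hii hz' hg₁ (hTz' y hyT) with e' | e'
      swap
      · exact e'
      exfalso
      have hyh : y * (g * g₁) * y⁻¹ = g⁻¹ * g₁ := by
        rw [show y * (g * g₁) * y⁻¹ = y * g * y⁻¹ * (y * g₁ * y⁻¹) by group, hyinv, e']
      rcases root_conj hii hwo hh ((hTz y hyT).mul_right (hTz' y hyT)) with e'' | e''
      · rw [hyh, mul_left_inj] at e''
        exact ne_inv_of_root hz hgz e''.symm
      · rw [hyh, hgg.eq, mul_inv_rev, mul_right_inj] at e''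
        exact ne_inv_of_root hz' hg₁ e''
    have hmem : ∀ {k d : G}, Commute (y * y) k → y * k * y⁻¹ = k⁻¹ → k * k = d → d ∈ zpowers y := by
      intro k d hk hkinv hkd
      have hre : Commute k (e * e) := by
        obtain ⟨i, hi⟩ := mem_zpowers_iff.1 hee
        rw [← hi]
        exact hk.symm.zpow_right i
      have h := mul_mem (conj_mem_even hii heo (mul_mem hey hey) hre) (inv_mem (mem_zpowers y))
      rwa [show k * y * k⁻¹ * y⁻¹ = k * (y * k * y⁻¹)⁻¹ by group, hkinv, inv_inv, hkd] at h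
    exact hne (invol_unique hz' hz (hmem (commute_sq_of_conj (Or.inr hyinv₁)) hyinv₁ hg₁)
      (hmem (commute_sq_of_conj (Or.inr hyinv)) hyinv hgz))
  push Not at hA
  exfalso
  have hA' : ∀ x : G, Commute x z' → Commute x g₁ := fun x hx => by
    have h1 : Commute (c⁻¹ * x * c) z := by
      have h := Commute.map hx (MulAut.conj c⁻¹).toMonoidHom
      simpa [MulAut.conj_apply, hz'c, mul_assoc] using h
    have h := Commute.map (hA _ h1) (MulAut.conj c).toMonoidHom
    simpa [MulAut.conj_apply, hg₁c, mul_assoc] using h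
  have htg : ∀ {t k d : G}, orderOf t = 2 → Commute t k → k * k = d → t * k * (t * k) = d := by
    intro t k d ht htk hk
    rw [htk.symm.mul_mul_mul_comm, invol_mul_self ht, one_mul, hk]
  have htconj : ∀ {x t k d : G}, orderOf d = 2 → orderOf t = 2 → Commute t k → k * k = d →
      Commute x d → Commute x k → x * t * x⁻¹ = t ∨ x * t * x⁻¹ = t * d := by
    intro x t k d hd ht htk hk hxd hxk
    have he : x * (t * k) * x⁻¹ = x * t * x⁻¹ * k := by
      rw [show x * (t * k) * x⁻¹ = x * t * x⁻¹ * (x * k * x⁻¹) by group, hxk.eq,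
        mul_inv_cancel_right]
    rcases root_conj hii hd (htg ht htk hk) hxd with e | e
    · exact Or.inl (mul_right_cancel (he.symm.trans e))
    · refine Or.inr ?_
      rw [he, mul_inv_rev, invol_inv ht, ← eq_mul_inv_iff_mul_eq] at e
      rw [e, ← htk.inv_right.eq, mul_assoc, ← mul_inv_rev, hk, invol_inv hd]
  have hTinv : ∀ u ∈ (T : Subgroup G), ∀ t ∈ (T : Subgroup G), orderOf t = 2 → Commute u t := by
    intro u hu t ht hto
    refine mul_inv_eq_iff_eq_mul.1 ?_
    rcases htconj hz hto (hA t (hTz t ht)) hgz (hTz u hu) (hA u (hTz u hu)) with e | e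
    · exact e
    rcases htconj hz' hto (hA' t (hTz' t ht)) hg₁ (hTz' u hu) (hA' u (hTz' u hu)) with e' | e'
    · exact e'
    exact absurd (mul_left_cancel (e'.symm.trans e)) hne
  have hTn : ∀ u ∈ (T : Subgroup G), ∀ x ∈ (T : Subgroup G), u * x * u⁻¹ ∈ zpowers x := by
    intro u hu x hx
    by_cases hxx : x * x = 1
    · by_cases hx1 : x = 1
      · simp [hx1]
      · rw [(hTinv u hu x hx (invol_of hxx hx1)).eq, mul_inv_cancel_right]
        exact mem_zpowers x
    · obtain ⟨e, hex, heo, -⟩ := exists_root (two_el hx) hxx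
      have heT : e ∈ (T : Subgroup G) := (zpowers_le).2 hx hex
      exact conj_mem_even hii heo (mul_mem hex hex) (hTinv u hu _ (mul_mem heT heT) heo)
  have hcT : ∀ x ∈ (T : Subgroup G), ∀ y ∈ (T : Subgroup G), Commute x y := by
    rcases exists_pair (T : Subgroup G) hTn with h | h
    · exact h
    obtain ⟨x, hx, y, hy, hxo, hyx, hyinv⟩ := h
    exfalso
    set r := x * x with hr
    have hro : orderOf r = 2 := by
      rw [hr, ← sq, orderOf_pow_of_dvd (by norm_num) (by rw [hxo]; norm_num), hxo]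
    have hrr := invol_mul_self hro
    have hrT : r ∈ (T : Subgroup G) := mul_mem hx hx
    have hxy : x * y * x⁻¹ = y⁻¹ := by
      have h1 : y * x = x⁻¹ * y := mul_inv_eq_iff_eq_mul.1 hyinv
      have h2 : x * y = y * x⁻¹ := by
        have h3 : y⁻¹ * x⁻¹ = x * y⁻¹ := by
          rw [← mul_inv_rev, ← inv_inj, inv_inv, mul_inv_rev, inv_inv]
          calc x * y = x * (y * x) * x⁻¹ := by group
            _ = y * x⁻¹ := by rw [h1, mul_inv_cancel_left]
        calc x * y = x * y⁻¹ * (y * y) := by group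
          _ = y⁻¹ * (x⁻¹ * r) := by rw [← h3, hyx, mul_assoc]
          _ = y⁻¹ * x := by rw [hr, inv_mul_cancel_left]
          _ = y * (y * y)⁻¹ * x := by group
          _ = y * x⁻¹ := by rw [hyx, hr]; group
      rw [h2, mul_assoc, ← mul_inv_rev, ← hr, invol_inv hro]
      refine eq_inv_of_mul_eq_one_left ?_
      rw [mul_assoc, (hTinv y hy r hrT hro).symm.eq, ← mul_assoc, hyx, hrr]
    have hr_eq : ∀ {k d : G}, orderOf d = 2 → k * k = d → k ∈ (T : Subgroup G) → Commute y k →
        Commute x k → Commute r d → (∀ v ∈ (T : Subgroup G), Commute v d) → r = d := by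
      intro k d hd hk hkT hyk hxk hrd hTd
      by_contra hrne
      have h2 : y * k * (y * k) = r * d := by
        rw [hyk.symm.mul_mul_mul_comm, hyx, hk]
      have hrdo : orderOf (r * d) = 2 := invol_of
        (by rw [hrd.symm.mul_mul_mul_comm, hrr, invol_mul_self hd, one_mul])
        (fun e => hrne ((mul_eq_one_iff_eq_inv.1 e).trans (invol_inv hd)))
      have hc : x * (y * k) * x⁻¹ = y⁻¹ * k := by
        rw [show x * (y * k) * x⁻¹ = x * y * x⁻¹ * (x * k * x⁻¹) by group, hxy, hxk.eq,
          mul_inv_cancel_right]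
      rcases root_conj hii hrdo h2 ((hTinv x hx r hrT hro).mul_right (hTd x hx)) with e | e
      · rw [hc, mul_left_inj] at e
        exact ne_inv_of_root hro hyx e.symm
      · rw [hc, hyk.eq, mul_inv_rev, mul_right_inj] at e
        exact ne_inv_of_root hd hk e
    exact hne ((hr_eq hz' hg₁ hg₁T (hA' y (hTz' y hy)) (hA' x (hTz' x hx)) (hTz' r hrT) hTz').symm.trans
      (hr_eq hz hgz hgT (hA y (hTz y hy)) (hA x (hTz x hx)) (hTz r hrT) hTz))
  have hKT : ∀ a x : G, Commute a z → Odd (orderOf a) → x ∈ (T : Subgroup G) → Commute a x := by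
    intro a x haz hao hx
    by_cases hxx : x * x = 1
    · by_cases hx1 : x = 1
      · rw [hx1]; exact Commute.one_right a
      refine commute_of_sq hao (mul_inv_eq_iff_eq_mul.1 (show a * a * x * (a * a)⁻¹ = x from ?_))
      rw [show a * a * x * (a * a)⁻¹ = a * (a * x * a⁻¹) * a⁻¹ by group]
      rcases htconj hz (invol_of hxx hx1) (hA x (hTz x hx)) hgz haz (hA a haz) with e | e
      · rw [e, e]
      · rw [e, show a * (x * z) * a⁻¹ = a * x * a⁻¹ * (a * z * a⁻¹) by group, e, haz.eq,
          mul_inv_cancel_right, mul_assoc, invol_mul_self hz, mul_one]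
    obtain ⟨e, hex, heo, hee⟩ := exists_root (two_el hx) hxx
    have heT : e ∈ (T : Subgroup G) := (zpowers_le).2 hx hex
    have her : e * e * (e * e) = 1 := invol_mul_self heo
    have hae : Commute a (e * e) := by
      refine commute_of_sq hao (mul_inv_eq_iff_eq_mul.1
        (show a * a * (e * e) * (a * a)⁻¹ = e * e from ?_))
      rw [show a * a * (e * e) * (a * a)⁻¹ = a * (a * (e * e) * a⁻¹) * a⁻¹ by group]
      have hr : e * e ∈ (T : Subgroup G) := mul_mem heT heT
      rcases htconj hz heo (hA _ (hTz _ hr)) hgz haz (hA a haz) with e' | e'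
      · rw [e', e']
      · rw [e', show a * (e * e * z) * a⁻¹ = a * (e * e) * a⁻¹ * (a * z * a⁻¹) by group, e',
          haz.eq, mul_inv_cancel_right, mul_assoc, invol_mul_self hz, mul_one]
    have h1 : a * x * a⁻¹ * x⁻¹ ∈ zpowers x :=
      mul_mem (conj_mem_even hii heo (mul_mem hex hex) hae) (inv_mem (mem_zpowers x))
    have h2 : a * x * a⁻¹ * x⁻¹ ∈ zpowers a := by
      rw [show a * x * a⁻¹ * x⁻¹ = a * (x * a * x⁻¹)⁻¹ by group]
      exact mul_mem (mem_zpowers a) (inv_mem (conj_mem_odd hii hz hao haz (hTz x hx)))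
    obtain ⟨k, hk⟩ := two_el hx
    have h4 : orderOf (a * x * a⁻¹ * x⁻¹) ∣ 1 := by
      rw [← (Nat.Coprime.pow_left k hao.coprime_two_left).gcd_eq_one, ← hk]
      exact Nat.dvd_gcd (orderOf_dvd_of_mem_zpowers h1) (orderOf_dvd_of_mem_zpowers h2)
    exact mul_inv_eq_iff_eq_mul.1 (mul_inv_eq_one.1 (orderOf_eq_one_iff.1 (Nat.dvd_one.1 h4)))
  have hab : ∀ x y : G, Commute x z → Commute y z → Commute x y := fun x y hx hy => by
    obtain ⟨a, haz, hao, t, ht, rfl⟩ := exists_mul hii hz T hzT hx
    obtain ⟨b, hbz, hbo, s, hs, rfl⟩ := exists_mul hii hz T hzT hy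
    exact ((commute_odd hii hz hao hbo haz hbz).mul_right (hKT a s haz hao hs)).mul_left
      ((hKT b t hbz hbo ht).symm.mul_right (hcT t ht s hs))
  have hcomm : ∀ t ∈ (T : Subgroup G), orderOf t = 2 →
      ∀ x y : G, Commute x t → Commute y t → Commute x y := fun t ht hto x y hx hy => by
    by_cases hK : ∃ a : G, Commute a z ∧ Odd (orderOf a) ∧ a ≠ 1
    · obtain ⟨a, haz, hao, ha1⟩ := hK
      have hC := cent_eq hii hto hz hao ha1 (hKT a t haz hao ht) haz
      have conv : ∀ w : G, Commute w t → Commute w z := fun v hv => by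
        have h : v ∈ centralizer ({z} : Set G) := hC ▸ mem_centralizer_singleton_iff.2 hv
        exact mem_centralizer_singleton_iff.1 h
      exact hab x y (conv x hx) (conv y hy)
    push Not at hK
    have hTt : (T : Subgroup G) ≤ centralizer {t} := fun v hv =>
      mem_centralizer_singleton_iff.2 (hcT v hv t ht)
    have key : ∀ v, Commute v t → v ∈ (T : Subgroup G) := fun v hv => by
      obtain ⟨a, hat, hao, s, hs, rfl⟩ := exists_mul hii hto T hTt hv
      by_cases ha1 : a = 1
      · rwa [ha1, one_mul]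
      exfalso
      have hnz : centralizer ({t} : Set G) ≠ centralizer {z} := fun e => by
        have h : a ∈ centralizer ({z} : Set G) := e ▸ mem_centralizer_singleton_iff.2 hat
        exact ha1 (hK a (mem_centralizer_singleton_iff.1 h) hao)
      have hnz' : centralizer ({t} : Set G) ≠ centralizer {z'} := fun e => by
        have h : a ∈ centralizer ({z'} : Set G) := e ▸ mem_centralizer_singleton_iff.2 hat
        have h1 : Commute (c⁻¹ * a * c) z := by
          have h := Commute.map (mem_centralizer_singleton_iff.1 h : Commute a z')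
            (MulAut.conj c⁻¹).toMonoidHom
          simpa [MulAut.conj_apply, hz'c, mul_assoc] using h
        have h2 := hK _ h1 (by
          rw [show c⁻¹ * a * c = c⁻¹ * a * c⁻¹⁻¹ by group, orderOf_conj_eq]; exact hao)
        exact ha1 (by rw [show a = c * (c⁻¹ * a * c) * c⁻¹ by group, h2, mul_one, mul_inv_cancel])
      have hza := inv_of_ne hii hto hz (hTz t ht) hao hat hnz
      have hz'a := inv_of_ne hii hto hz' (hTz' t ht) hao hat hnz'
      have haw : Commute a w := (mul_inv_eq_iff_eq_mul.1 (show w * a * w⁻¹ = a by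
        rw [hw, show z * z' * a * (z * z')⁻¹ = z * (z' * a * z'⁻¹) * z⁻¹ by group, hz'a,
          show z * a⁻¹ * z⁻¹ = (z * a * z⁻¹)⁻¹ by group, hza, inv_inv]) : Commute w a).symm
      have hca : ∀ {k : G}, k * k = w → Commute a k := fun hk =>
        commute_of_sq hao (commute_sq_of_conj (root_conj hii hwo hk haw))
      have haz : Commute a z := by
        have h := (hca hh).mul_right (hca hh').inv_right
        rwa [mul_inv_rev, inv_inv, mul_assoc, mul_inv_cancel_left, hgz] at h
      exact ha1 (hK a haz hao)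
    exact hcT x (key x hx) y (key y hy)
  exact invol_ne_one hz (hgz ▸ sq_one_of_comm hss T hcomm hz (commute_of_root hgz))

theorem main (hii : NEq G) (hss : SS G) : Out G := by
  haveI : Fact (Nat.Prime 2) := ⟨Nat.prime_two⟩
  obtain ⟨T⟩ : Nonempty (Sylow 2 G) := inferInstance
  by_cases h2 : ∀ t ∈ (T : Subgroup G), t * t = 1
  · exact case_exponent_two hii hss T h2
  push Not at h2
  obtain ⟨x, hx, hxx⟩ := h2
  obtain ⟨g, hgx, hz, -⟩ := exists_root (two_el hx) hxx
  have hgT : g ∈ (T : Subgroup G) := (zpowers_le).2 hx hgx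
  have hzT := sq_central hii T hgT hz
  set z := g * g with hzdef
  have hniso : ¬ Cfsg.IsIsolatedInvolution z := fun hiso => by
    have hc := hss (center G) inferInstance (Group.isSolvable_of_comm fun a b => Subtype.ext (mem_center_iff.1 b.2 a))
    have hzc := Involutions.ZStar.mem_center_of_oddCore_eq_bot hiso (oddCore_eq_bot hss)
    rw [hc, mem_bot] at hzc
    exact invol_ne_one hz hzc
  obtain ⟨c₀, hc₀, hc₀ne⟩ : ∃ c, Commute z (c * z * c⁻¹) ∧ c * z * c⁻¹ ≠ z := by
    by_contra hcon
    push Not at hcon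
    exact hniso ⟨hz, hcon⟩
  let v : centralizer ({z} : Set G) := ⟨c₀ * z * c₀⁻¹, mem_centralizer_singleton_iff.2 hc₀.symm⟩
  obtain ⟨h, hh⟩ := exists_conj_le (T.subtype hzT) (isPGroup_zpowers_invol (t := v)
    (by rw [← orderOf_coe]; show orderOf (c₀ * z * c₀⁻¹) = 2; rw [orderOf_conj_eq]; exact hz))
  have hhT : (h : G) * (c₀ * z * c₀⁻¹) * (h : G)⁻¹ ∈ (T : Subgroup G) := by
    simpa [Sylow.coe_subtype, mem_subgroupOf, v] using hh v (mem_zpowers v)
  set c := (h : G) * c₀ with hcdef
  have hz'T : c * z * c⁻¹ ∈ (T : Subgroup G) := by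
    rwa [show c * z * c⁻¹ = (h : G) * (c₀ * z * c₀⁻¹) * (h : G)⁻¹ by rw [hcdef]; group]
  have hne : c * z * c⁻¹ ≠ z := fun e => hc₀ne (by
    have hhz : Commute (h : G) z := mem_centralizer_singleton_iff.1 h.2
    calc c₀ * z * c₀⁻¹ = (h : G)⁻¹ * (c * z * c⁻¹) * h := by rw [hcdef]; group
      _ = z := by rw [e, mul_assoc, ← hhz.eq, inv_mul_cancel_left])
  have hzz' : Commute (c * z * c⁻¹) z := mem_centralizer_singleton_iff.1 (hzT hz'T)
  rcases root_conj hii hz hzdef.symm hzz' with e | e
  · exact case_plus hii hss hz hzdef.symm rfl rfl hne hzz'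
      (mul_inv_eq_iff_eq_mul.1 e : Commute (c * z * c⁻¹) g).symm
  · exact case_minus hii hss T hz (by rw [orderOf_conj_eq]; exact hz) hzdef.symm
      (g₁ := c * g * c⁻¹) (by rw [hzdef]; group) hzT hzz' e

end CfsgLib.DGroup.II
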