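import Cfsg.Agent.Lib.DGroup.II.Basic

/-!
# Square roots of involutions
-/

set_option autoImplicit false
set_option linter.unusedSectionVars false
set_option linter.style.haveILetI false

namespace CfsgLib.DGroup.II

open Subgroup CfsgLib.Involutions

universe u

variable {G : Type u} [Group G]

theorem invol_of {x : G} (h : x * x = 1) (h1 : x ≠ 1) : orderOf x = 2 := by
  haveI : Fact (Nat.Prime 2) := ⟨Nat.prime_two⟩
  exact orderOf_eq_prime (by rw [sq, h]) h1

theorem pow_four {g z : G} (hz : orderOf z = 2) (hgz : g * g = z) : g ^ (4 : ℤ) = 1 := by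
  rw [show (4 : ℤ) = 2 + 2 from rfl, zpow_add, zpow_two, hgz, invol_mul_self hz]

theorem ne_inv_of_root {g z : G} (hz : orderOf z = 2) (hgz : g * g = z) : g ≠ g⁻¹ := fun e =>
  invol_ne_one hz (hgz ▸ mul_eq_one_iff_eq_inv.2 e)

theorem mem_four {g z y : G} (hz : orderOf z = 2) (hgz : g * g = z) (hy : y ∈ zpowers g) :
    y = 1 ∨ y = g ∨ y = z ∨ y = g⁻¹ := by
  obtain ⟨i, rfl⟩ := mem_zpowers_iff.1 hy
  have h : g ^ i = g ^ (i % 4) := by
    conv_lhs => rw [← Int.mul_ediv_add_emod i 4, zpow_add, zpow_mul, pow_four hz hgz, one_zpow, one_mul]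
  have h0 : 0 ≤ i % 4 := Int.emod_nonneg i (by norm_num)
  have h4 : i % 4 < 4 := Int.emod_lt_of_pos i (by norm_num)
  rcases (show i % 4 = 0 ∨ i % 4 = 1 ∨ i % 4 = 2 ∨ i % 4 = 3 by omega) with e | e | e | e
  · exact Or.inl (by rw [h, e, zpow_zero])
  · exact Or.inr (Or.inl (by rw [h, e, zpow_one]))
  · exact Or.inr (Or.inr (Or.inl (by rw [h, e, zpow_two, hgz])))
  · refine Or.inr (Or.inr (Or.inr ?_))
    rw [h, e]
    refine eq_inv_of_mul_eq_one_left ?_
    rw [← zpow_add_one]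
    exact pow_four hz hgz

theorem commute_sq_of_conj {x g : G} (h : x * g * x⁻¹ = g ∨ x * g * x⁻¹ = g⁻¹) :
    Commute (x * x) g := by
  refine mul_inv_eq_iff_eq_mul.1 (show x * x * g * (x * x)⁻¹ = g from ?_)
  rw [show x * x * g * (x * x)⁻¹ = x * (x * g * x⁻¹) * x⁻¹ by group]
  rcases h with e | e
  · rw [e, e]
  · rw [e, show x * g⁻¹ * x⁻¹ = (x * g * x⁻¹)⁻¹ by group, e, inv_inv]

theorem invol_unique [Finite G] {y v w : G} (hv : orderOf v = 2) (hw : orderOf w = 2)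
    (hvy : v ∈ zpowers y) (hwy : w ∈ zpowers y) : v = w := by
  obtain ⟨i, rfl⟩ := mem_zpowers_iff.1 hvy
  obtain ⟨j, rfl⟩ := mem_zpowers_iff.1 hwy
  have key : ∀ i : ℤ, orderOf (y ^ i) = 2 → (orderOf y : ℤ) ∣ 2 * i ∧ ¬ (orderOf y : ℤ) ∣ i := by
    intro i hi
    refine ⟨orderOf_dvd_iff_zpow_eq_one.2 ?_, fun h => ?_⟩
    · rw [mul_comm, zpow_mul, zpow_two, invol_mul_self hi]
    · exact invol_ne_one hi (orderOf_dvd_iff_zpow_eq_one.1 h)
  obtain ⟨⟨a, ha⟩, hai⟩ := key i hv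
  obtain ⟨⟨b, hb⟩, hbj⟩ := key j hw
  refine mul_inv_eq_one.1 ?_
  rw [← zpow_neg, ← zpow_add]
  refine orderOf_dvd_iff_zpow_eq_one.1 ?_
  rcases Int.even_or_odd a with ⟨c, rfl⟩ | ⟨c, rfl⟩
  · exact absurd (Dvd.intro c (by linarith)) hai
  rcases Int.even_or_odd b with ⟨d, rfl⟩ | ⟨d, rfl⟩
  · exact absurd (Dvd.intro d (by linarith)) hbj
  exact Dvd.intro (c - d) (by linarith)

/-- In a 2-group an element of order at least four has a power squaring to its involution. -/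
theorem exists_root [Finite G] {x : G} (hx : ∃ k : ℕ, orderOf x = 2 ^ k) (h : x * x ≠ 1) :
    ∃ e ∈ zpowers x, orderOf (e * e) = 2 ∧ e * e ∈ zpowers (x * x) := by
  obtain ⟨k, hk⟩ := hx
  have hk2 : 2 ≤ k := by
    by_contra hlt
    have h1 : x ^ 2 = 1 := orderOf_dvd_iff_pow_eq_one.1 (hk ▸ by
      simpa using pow_dvd_pow 2 (show k ≤ 1 by omega))
    exact h (by rw [← sq, h1])
  refine ⟨x ^ 2 ^ (k - 2), pow_mem (mem_zpowers x) _, ?_, ?_⟩
  · rw [← sq, ← pow_mul, ← pow_succ, orderOf_pow_of_dvd (by positivity)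
      (hk ▸ pow_dvd_pow 2 (by omega)), hk, Nat.pow_div (by omega) (by norm_num),
      show k - (k - 2 + 1) = 1 by omega, pow_one]
  · rw [← (Commute.refl x).mul_pow]
    exact pow_mem (mem_zpowers _) _

theorem two_el {T : Sylow 2 G} {x : G} (hx : x ∈ (T : Subgroup G)) :
    ∃ k : ℕ, orderOf x = 2 ^ k := by
  haveI : Fact (Nat.Prime 2) := ⟨Nat.prime_two⟩
  obtain ⟨k, hk⟩ := IsPGroup.iff_orderOf.1 T.isPGroup' ⟨x, hx⟩
  exact ⟨k, by rwa [Subgroup.orderOf_mk] at hk⟩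

variable [Finite G] (hii : NEq G)
include hii

theorem root_conj {x g z : G} (hz : orderOf z = 2) (hgz : g * g = z) (hx : Commute x z) :
    x * g * x⁻¹ = g ∨ x * g * x⁻¹ = g⁻¹ := by
  have hzg : z ∈ zpowers g := hgz ▸ mul_mem (mem_zpowers g) (mem_zpowers g)
  rcases mem_four hz hgz (conj_mem_even hii hz hzg hx) with e | e | e | e
  · exact absurd (by simpa [conj_eq_one_iff.1 e] using hgz.symm) (invol_ne_one hz)
  · exact Or.inl e
  · refine absurd ?_ (invol_ne_one hz)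
    have h1 : x * (g * g) * x⁻¹ = 1 := by
      rw [show x * (g * g) * x⁻¹ = x * g * x⁻¹ * (x * g * x⁻¹) by group, e, invol_mul_self hz]
    rwa [conj_eq_one_iff, hgz] at h1
  · exact Or.inr e

theorem commute_roots {g h z w : G} (hz : orderOf z = 2) (hw : orderOf w = 2) (hgz : g * g = z)
    (hhw : h * h = w) (hne : z ≠ w) (hgw : Commute g w) (hhz : Commute h z) : Commute g h := by
  rcases root_conj hii hw hhw hgw with e | e
  · exact mul_inv_eq_iff_eq_mul.1 e
  exfalso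
  have h1 : g * h * g⁻¹ * h⁻¹ = w := by
    rw [e, ← mul_inv_rev, hhw, invol_inv hw]
  rcases root_conj hii hz hgz hhz with e' | e'
  · have h2 : g * h * g⁻¹ * h⁻¹ = 1 := by
      rw [show g * h * g⁻¹ * h⁻¹ = g * (h * g * h⁻¹)⁻¹ by group, e', mul_inv_cancel]
    exact invol_ne_one hw (h1.symm.trans h2)
  · have h2 : g * h * g⁻¹ * h⁻¹ = z := by
      rw [show g * h * g⁻¹ * h⁻¹ = g * (h * g * h⁻¹)⁻¹ by group, e', inv_inv, hgz]
    exact hne (h2.symm.trans h1)

/-- The square of an element of order four of a Sylow subgroup is central in it. -/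
theorem sq_central (T : Sylow 2 G) {g : G} (hg : g ∈ (T : Subgroup G))
    (hz : orderOf (g * g) = 2) : (T : Subgroup G) ≤ centralizer {g * g} := by
  classical
  haveI : Fact (Nat.Prime 2) := ⟨Nat.prime_two⟩
  by_contra hcon
  set v := g * g with hv
  set U := (T : Subgroup G) ⊓ centralizer {v} with hU
  have hgU : g ∈ U := ⟨hg, mem_centralizer_singleton_iff.2 (by rw [hv, mul_assoc])⟩
  have hlt : U.subgroupOf T < ⊤ := lt_top_iff_ne_top.2 fun e =>
    hcon ((subgroupOf_eq_top.1 e).trans inf_le_right)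
  haveI := T.isPGroup'.isNilpotent
  obtain ⟨⟨t₀, ht₀T⟩, ht₀n, ht₀U⟩ := SetLike.exists_of_lt
    (Group.normalizerCondition_of_isNilpotent (U.subgroupOf T) hlt)
  rw [mem_subgroupOf] at ht₀U
  have hnorm : ∀ y ∈ U, t₀ * y * t₀⁻¹ ∈ U := fun y hy => by
    have := (mem_normalizer_iff.1 ht₀n ⟨y, hy.1⟩).1 (mem_subgroupOf.2 hy)
    simpa [mem_subgroupOf] using this
  have hpow : ∃ k : ℕ, t₀ ^ 2 ^ k ∈ U := by
    obtain ⟨k, hk⟩ := two_el ht₀T
    exact ⟨k, by rw [← hk, pow_orderOf_eq_one]; exact one_mem U⟩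
  obtain ⟨t, htT, htU, htt, htn⟩ : ∃ t, t ∈ (T : Subgroup G) ∧ t ∉ U ∧ t * t ∈ U ∧
      ∀ y ∈ U, t * y * t⁻¹ ∈ U := by
    have h0 : Nat.find hpow ≠ 0 := fun e => ht₀U (by
      have := Nat.find_spec hpow; rwa [e, pow_zero, pow_one] at this)
    obtain ⟨j, hj⟩ := Nat.exists_eq_succ_of_ne_zero h0
    refine ⟨t₀ ^ 2 ^ j, pow_mem ht₀T _, Nat.find_min hpow (by omega), ?_, ?_⟩
    · have := Nat.find_spec hpow
      rwa [hj, pow_succ, pow_mul, sq] at this
    · generalize 2 ^ j = n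
      induction n with
      | zero => intro y hy; simpa using hy
      | succ n ih =>
        intro y hy
        rw [pow_succ, show t₀ ^ n * t₀ * y * (t₀ ^ n * t₀)⁻¹ =
          t₀ ^ n * (t₀ * y * t₀⁻¹) * (t₀ ^ n)⁻¹ by group]
        exact ih _ (hnorm y hy)
  set g' := t * g * t⁻¹ with hg'
  set v' := t * v * t⁻¹ with hv'
  have hvU : v ∈ U := mul_mem hgU hgU
  have hg'U : g' ∈ U := htn g hgU
  have hg'v : g' * g' = v' := by rw [hg', hv', hv]; group
  have hv'o : orderOf v' = 2 := by rw [hv', orderOf_conj_eq]; exact hz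
  have hcU : ∀ y ∈ U, Commute y v := fun y hy => mem_centralizer_singleton_iff.1 hy.2
  have hne : v ≠ v' := fun e => htU ⟨htT, mem_centralizer_singleton_iff.2
    (mul_inv_eq_iff_eq_mul.1 (hv' ▸ e.symm))⟩
  have hgv' : Commute g v' := by
    have h2 := hcU _ (show t⁻¹ * g * t ∈ U by
      have := htn _ (htn _ hgU)
      have h3 : t * t ∈ U := htt
      have h4 := mul_mem (mul_mem (inv_mem h3) (htn _ hgU)) h3
      rwa [show (t * t)⁻¹ * (t * g * t⁻¹) * (t * t) = t⁻¹ * g * t by group] at h4)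
    have := Commute.map h2 (MulAut.conj t).toMonoidHom
    simpa [MulAut.conj_apply, mul_assoc, hv'] using this
  have hcomm : Commute g g' :=
    commute_roots hii hz hv'o rfl hg'v hne hgv' (hcU _ hg'U)
  set ε := t * t * g * (t * t)⁻¹ with hεdef
  have hε : ε = g ∨ ε = g⁻¹ := root_conj hii hz rfl (hcU _ htt)
  have htg' : t * g' * t⁻¹ = ε := by rw [hg', hεdef]; group
  have hh : (g * g') * (g * g') = v * v' := by
    rw [hcomm.symm.mul_mul_mul_comm, hg'v]
  have hvv' : Commute v v' := ((hgv'.mul_left hgv' : Commute v v'))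
  have hwo : orderOf (v * v') = 2 := invol_of
    (by rw [hvv'.symm.mul_mul_mul_comm, invol_mul_self hz, invol_mul_self hv'o, one_mul])
    (fun e => hne ((mul_eq_one_iff_eq_inv.1 e).trans (invol_inv hv'o)))
  have htv' : t * v' * t⁻¹ = v := by
    rw [show t * v' * t⁻¹ = t * t * v * (t * t)⁻¹ by rw [hv']; group, (hcU _ htt).eq,
      mul_inv_cancel_right]
  have htw : Commute t (v * v') := mul_inv_eq_iff_eq_mul.1
    (show t * (v * v') * t⁻¹ = v * v' by
      rw [show t * (v * v') * t⁻¹ = t * v * t⁻¹ * (t * v' * t⁻¹) by group, ← hv', htv',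
        hvv'.eq])
  have hεg : ε = g := by
    rcases hε with e | e
    · exact e
    exfalso
    have hth : t * (g * g') * t⁻¹ = g' * g⁻¹ := by
      rw [show t * (g * g') * t⁻¹ = t * g * t⁻¹ * (t * g' * t⁻¹) by group, ← hg', htg', e]
    rcases root_conj hii hwo hh htw with e' | e'
    · rw [hth, ← hcomm.inv_left.eq, mul_left_inj] at e'
      exact ne_inv_of_root hz hv.symm e'.symm
    · rw [hth, mul_inv_rev, mul_left_inj] at e'
      exact ne_inv_of_root hv'o hg'v e'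
  rw [hεg] at htg'
  have htg2 : Commute (t * t) g := mul_inv_eq_iff_eq_mul.1 (hεdef ▸ hεg)
  obtain ⟨x, hxT, hxg, hxg', hxx, hxne⟩ : ∃ x, x ∈ (T : Subgroup G) ∧ x * g * x⁻¹ = g' ∧
      x * g' * x⁻¹ = g ∧ Commute (x * x) g ∧ x * x ≠ 1 := by
    by_cases h1 : t * t = 1
    · have htt1 : t⁻¹ = t := inv_eq_of_mul_eq_one_right h1
      have hxx' : g * t * (g * t) = g * g' := by
        rw [hg', htt1]; group
      refine ⟨g * t, mul_mem hg htT, ?_, ?_, ?_, ?_⟩
      · rw [show g * t * g * (g * t)⁻¹ = g * g' * g⁻¹ by rw [hg']; group, hcomm.eq,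
          mul_inv_cancel_right]
      · rw [show g * t * g' * (g * t)⁻¹ = g * (t * g' * t⁻¹) * g⁻¹ by group, htg',
          mul_inv_cancel_right]
      · rw [hxx']; exact (Commute.refl g).mul_left hcomm.symm
      · rw [hxx']; intro e
        apply invol_ne_one hwo
        rw [← hh, e, one_mul]
    · exact ⟨t, htT, rfl, htg', htg2, h1⟩
  obtain ⟨e, hex, heo, hee⟩ := exists_root (two_el hxT) hxne
  have hrg : Commute g (e * e) := by
    obtain ⟨i, hi⟩ := mem_zpowers_iff.1 hee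
    rw [← hi]
    exact hxx.symm.zpow_right i
  have hc : g * x * g⁻¹ * x⁻¹ ∈ zpowers x :=
    mul_mem (conj_mem_even hii heo (mul_mem hex hex) hrg) (inv_mem (mem_zpowers x))
  rw [show g * x * g⁻¹ * x⁻¹ = g * (x * g * x⁻¹)⁻¹ by group, hxg] at hc
  obtain ⟨i, hi⟩ := mem_zpowers_iff.1 hc
  have hxc : x * (g * g'⁻¹) * x⁻¹ = g * g'⁻¹ := by
    rw [← hi, ((Commute.refl x).zpow_right i).eq, mul_inv_cancel_right]
  rw [show x * (g * g'⁻¹) * x⁻¹ = x * g * x⁻¹ * (x * g' * x⁻¹)⁻¹ by group, hxg, hxg'] at hxc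
  apply hne
  calc v = g * g'⁻¹ * g' * g := by rw [inv_mul_cancel_right]
    _ = g' * g⁻¹ * g' * g := by rw [hxc]
    _ = g' * g' := by rw [mul_assoc g' g⁻¹, ← hcomm.inv_left.symm.eq]; group
    _ = v' := hg'v

end CfsgLib.DGroup.II
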